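import Groth.Agent.AmpleLib.Ample
import Groth.Prelude.Def_PicF2

/-!
# The zero scheme of a section of an invertible module

`zeroScheme_ideal`: its ideal on an affine open is `PicF2.zeroIdealOn`; on an open with a generator
it is generated by the coordinate of the section.
-/

set_option autoImplicit false
set_option backward.isDefEq.respectTransparency.types false

universe u

open CategoryTheory CategoryTheory.Limits AlgebraicGeometry Opposite TopologicalSpace
open Groth.Agent.Coherent Groth.Agent.PicLib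

namespace Groth.Agent.ZeroSchLib

variable {X : Scheme.{u}} {L : X.Modules} (σ : Coh.structureModule X ⟶ L)

theorem mem_zeroIdealOn_iff {U : X.Opens} (a : Γ(X, U)) :
    a ∈ (show Ideal Γ(X, U) from PicF2.zeroIdealOn L σ U) ↔
      ∀ m : Γ(L, U), ∃ b : Γ(X, U), a • m = b • unitVal σ U := Iff.rfl

theorem zeroIdealOn_eq_span {U : X.Opens} {e : Γ(L, U)} (he : IsGen L U e) :
    (show Ideal Γ(X, U) from PicF2.zeroIdealOn L σ U) =
      Ideal.span {he.coef le_rfl (unitVal σ U)} := by
  ext a
  rw [mem_zeroIdealOn_iff, Ideal.mem_span_singleton']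
  constructor
  · intro h
    obtain ⟨b, hb⟩ := h e
    refine ⟨b, ?_⟩
    have := congrArg (he.coef le_rfl) hb
    rw [he.coef_smul, he.coef_smul] at this
    have h1 : he.coef le_rfl e = 1 := he.coef_eq le_rfl (by rw [one_smul, resM_self])
    rw [h1, mul_one] at this
    exact this.symm
  · rintro ⟨b, rfl⟩ m
    refine ⟨he.coef le_rfl m * b, ?_⟩
    conv_lhs => rw [← he.coef_spec le_rfl m]
    conv_rhs => rw [← he.coef_spec le_rfl (unitVal σ U)]
    rw [smul_smul, smul_smul]
    congr 1
    ring

theorem locallyFinGen_of_isInvertible (hL : PicF.IsInvertible L) : LocallyFinGen L := by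
  intro x
  obtain ⟨U, hx, e, he⟩ := exists_isGen hL x
  refine ⟨U, PUnit, inferInstance, fun _ => e, hx, fun W hW a y hy => ⟨W, le_rfl, hy,
    fun _ => he.coef hW a, ?_⟩⟩
  simp only [Fintype.univ_punit, Finset.sum_singleton, resM_self]
  exact (he.coef_spec hW a).symm

theorem map_zeroIdealOn (hL : PicF.IsInvertible L) {U : X.Opens} (hU : IsAffineOpen U)
    (f : Γ(X, U)) :
    Ideal.map (X.presheaf.map (homOfLE (X.basicOpen_le f)).op).hom
        (show Ideal Γ(X, U) from PicF2.zeroIdealOn L σ U) =
      (show Ideal Γ(X, X.basicOpen f) from PicF2.zeroIdealOn L σ (X.basicOpen f)) := by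
  have := AmpleLib.isQCoh_of_isInvertible hL
  have := hU.isLocalization_basicOpen f
  let r := PicLib.res (X.basicOpen_le f)
  have hrf : ∀ n, IsUnit (r (f ^ n)) := fun n => by
    rw [map_pow]
    exact (RingedSpace.isUnit_res_basicOpen X.toRingedSpace f).pow n
  have hτ : resM L (X.basicOpen_le f) (unitVal σ U) = unitVal σ (X.basicOpen f) := resM_unitVal σ _
  refine le_antisymm (Ideal.map_le_iff_le_comap.2 fun a ha => ?_) fun a' ha' => ?_
  · rw [Ideal.mem_comap, mem_zeroIdealOn_iff]
    intro m
    obtain ⟨n, t, ht⟩ := qcoh_exists_pow_smul hU L f m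
    obtain ⟨b, hb⟩ := (mem_zeroIdealOn_iff σ a).1 ha t
    refine ⟨(hrf n).unit⁻¹ * r b, ?_⟩
    have h1 : r a • r (f ^ n) • m = r b • unitVal σ (X.basicOpen f) := by
      rw [← hτ, ← ht, ← resM_smul, hb, resM_smul]
    rw [mul_smul, ← h1, smul_smul, smul_smul, mul_right_comm, IsUnit.val_inv_mul, one_mul]
  · obtain ⟨⟨c, _, n, rfl⟩, hc⟩ := IsLocalization.surj (M := Submonoid.powers f) (R := Γ(X, U))
      (S := Γ(X, X.basicOpen f)) a'
    dsimp only at hc
    have hfin := finite_sections L (locallyFinGen_of_isInvertible hL) hU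
    obtain ⟨G, hG⟩ := hfin.fg_top
    have hpt : ∀ g : Γ(L, U), ∃ N : ℕ, ∃ b : Γ(X, U), (f ^ N * c) • g = b • unitVal σ U := by
      intro g
      obtain ⟨b', hb'⟩ := (mem_zeroIdealOn_iff σ a').1 ha' (resM L (X.basicOpen_le f) g)
      obtain ⟨⟨d, _, p, rfl⟩, hd⟩ := IsLocalization.surj (M := Submonoid.powers f) (R := Γ(X, U))
        (S := Γ(X, X.basicOpen f)) b'
      dsimp only at hd
      have hz : resM L (X.basicOpen_le f) ((f ^ p * c) • g - (f ^ n * d) • unitVal σ U) = 0 := by
        rw [map_sub, resM_smul, resM_smul, hτ, sub_eq_zero]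
        show r (f ^ p * c) • _ = r (f ^ n * d) • _
        rw [map_mul, map_mul,
          show r c = a' * r (f ^ n) from hc.symm, show r d = b' * r (f ^ p) from hd.symm,
          show r (f ^ p) * (a' * r (f ^ n)) = (r (f ^ p) * r (f ^ n)) * a' by ring,
          show r (f ^ n) * (b' * r (f ^ p)) = (r (f ^ p) * r (f ^ n)) * b' by ring,
          mul_smul, mul_smul, hb', smul_smul, smul_smul, mul_assoc]
      obtain ⟨N, hN⟩ := qcoh_exists_pow_smul_eq_zero hU L f _ hz
      refine ⟨N + p, f ^ N * (f ^ n * d), ?_⟩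
      rw [smul_sub, sub_eq_zero, smul_smul, smul_smul] at hN
      rw [pow_add, mul_assoc, hN]
    choose N hN using hpt
    have hmem : f ^ (∑ g ∈ G, N g) * c ∈
        (show Ideal Γ(X, U) from PicF2.zeroIdealOn L σ U) := by
      rw [mem_zeroIdealOn_iff]
      intro m
      have hm : m ∈ Submodule.span Γ(X, U) (G : Set Γ(L, U)) := hG ▸ Submodule.mem_top
      induction hm using Submodule.span_induction with
      | mem g hg =>
        obtain ⟨b, hb⟩ := hN g
        refine ⟨f ^ (∑ g' ∈ G, N g' - N g) * b, ?_⟩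
        conv_lhs => rw [← Nat.sub_add_cancel (Finset.single_le_sum (fun i _ => Nat.zero_le (N i)) hg),
          pow_add, mul_assoc, mul_smul, hb, smul_smul]
      | zero => exact ⟨0, by rw [smul_zero, zero_smul]⟩
      | add x y _ _ hx hy =>
        obtain ⟨b₁, h₁⟩ := hx
        obtain ⟨b₂, h₂⟩ := hy
        exact ⟨b₁ + b₂, by rw [smul_add, h₁, h₂, add_smul]⟩
      | smul s x _ hx =>
        obtain ⟨b, hb⟩ := hx
        exact ⟨s * b, by rw [smul_comm, hb, mul_smul]⟩
    have := Ideal.mem_map_of_mem r hmem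
    rw [map_mul, show r c = a' * r (f ^ n) from hc.symm, mul_comm, Ideal.mul_unit_mem_iff_mem _ (hrf _),
      Ideal.mul_unit_mem_iff_mem _ (hrf _)] at this
    exact this

/-- The ideal of the zero scheme on an affine open. -/
theorem zeroScheme_ideal (hL : PicF.IsInvertible L) (U : X.affineOpens) :
    (PicF2.zeroScheme L σ).ideal U = (show Ideal Γ(X, U) from PicF2.zeroIdealOn L σ U.1) := by
  let J : X.IdealSheafData :=
    { ideal := fun U => PicF2.zeroIdealOn L σ U.1
      map_ideal_basicOpen := fun U f => map_zeroIdealOn σ hL U.2 f }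
  have : PicF2.zeroScheme L σ = J := Scheme.IdealSheafData.ofIdeals_ideal J
  rw [this]

/-- With a generator, the zero scheme is cut out by the coordinate of the section. -/
theorem zeroScheme_ideal_eq_span (hL : PicF.IsInvertible L) (U : X.affineOpens) {e : Γ(L, U.1)}
    (he : IsGen L U.1 e) :
    (PicF2.zeroScheme L σ).ideal U = Ideal.span {he.coef le_rfl (unitVal σ U.1)} :=
  (zeroScheme_ideal σ hL U).trans (zeroIdealOn_eq_span σ he)

end Groth.Agent.ZeroSchLib
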